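import Mathlib.CategoryTheory.Sites.ConstantSheaf
import Mathlib.CategoryTheory.Sites.Over
import Mathlib.CategoryTheory.Sites.LocallyBijective
import Mathlib.Algebra.Category.ModuleCat.Abelian

/-!
# Linear sections trivializing a sheaf of modules

Linear sections `s : M → F(U)` which are locally bijective are the same as isomorphisms of the
restriction of `F` with the constant sheaf on the over-site, and, for `U` terminal, of `F` itself.
-/

set_option autoImplicit false
set_option backward.isDefEq.respectTransparency.types false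
set_option linter.style.haveILetI false

universe v w u

open CategoryTheory CategoryTheory.Limits Opposite

namespace Groth.EtaleDeep.LocConstP

variable {Λ : Type u} [CommRing Λ] {C : Type w} [Category.{v} C] {J : GrothendieckTopology C}

/-- The sieve of arrows on which `σ` is a value of the linear sections. -/
def valueSieve (F : Sheaf J (ModuleCat.{u} Λ)) {U : C} {M : Type u} [AddCommGroup M] [Module Λ M]
    (s : M →ₗ[Λ] F.obj.obj (op U)) {Y : C} (h : Y ⟶ U) (σ : F.obj.obj (op Y)) : Sieve Y where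
  arrows Z k := ∃ a, (F.obj.map k.op).hom ((F.obj.map h.op).hom (s a)) = (F.obj.map k.op).hom σ
  downward_closed := by
    rintro Z Z' k ⟨a, ha⟩ g
    refine ⟨a, ?_⟩
    rw [op_comp, Functor.map_comp, ModuleCat.hom_comp, LinearMap.comp_apply, LinearMap.comp_apply, ha]

/-- Linear sections over `U` which are locally bijective over `U`. -/
structure LBij (F : Sheaf J (ModuleCat.{u} Λ)) (U : C) {M : Type u} [AddCommGroup M] [Module Λ M]
    (s : M →ₗ[Λ] F.obj.obj (op U)) : Prop where
  inj : ∀ {Y : C} (h : Y ⟶ U) (a : M), (F.obj.map h.op).hom (s a) = 0 → a ≠ 0 → (⊥ : Sieve Y) ∈ J Y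
  surj : ∀ {Y : C} (h : Y ⟶ U) (σ : F.obj.obj (op Y)), valueSieve F s h σ ∈ J Y

variable {F : Sheaf J (ModuleCat.{u} Λ)} {U : C} {M : Type u} [AddCommGroup M] [Module Λ M]
  {s : M →ₗ[Λ] F.obj.obj (op U)}

/-- The map from the constant presheaf on the over category given by linear sections. -/
noncomputable def overMap (F : Sheaf J (ModuleCat.{u} Λ)) (U : C) (s : M →ₗ[Λ] F.obj.obj (op U)) :
    (Functor.const (Over U)ᵒᵖ).obj (ModuleCat.of Λ M) ⟶ (F.over U).obj where
  app Y := ModuleCat.ofHom ((F.obj.map Y.unop.hom.op).hom.comp s)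
  naturality Y Y' φ := by
    ext a
    show F.obj.map Y'.unop.hom.op (s a) = F.obj.map φ.unop.left.op (F.obj.map Y.unop.hom.op (s a))
    rw [← Functor.map_comp_apply, ← op_comp, Over.w φ.unop]

/-- Locally bijective linear sections give a locally bijective map of presheaves on the over site. -/
theorem LBij.locallyBijective (h : LBij F U s) :
    Presheaf.IsLocallyInjective (J.over U) (overMap F U s) ∧
      Presheaf.IsLocallySurjective (J.over U) (overMap F U s) := by
  refine ⟨⟨fun {Y} a b e => ?_⟩, ⟨fun {Y} σ => ?_⟩⟩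
  · rw [GrothendieckTopology.mem_over_iff]
    by_cases hab : a = b
    · subst hab
      refine J.superset_covering ?_ (J.top_mem _)
      intro Z k _
      exact (Sieve.overEquiv_iff _ _).2 rfl
    · refine J.superset_covering bot_le (h.inj Y.unop.hom (a - b) ?_ (sub_ne_zero.2 hab))
      rw [map_sub, map_sub]
      exact sub_eq_zero.2 e
  · rw [GrothendieckTopology.mem_over_iff]
    refine J.superset_covering ?_ (h.surj Y.hom σ)
    rintro Z k ⟨a, ha⟩
    refine (Sieve.overEquiv_iff _ _).2 ⟨a, ?_⟩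
    refine Eq.trans ?_ ha
    exact Functor.map_comp_apply F.obj Y.hom.op k.op (s a)

section

variable [HasWeakSheafify (J.over U) (ModuleCat.{u} Λ)]

/-- Locally bijective linear sections trivialize the restriction. -/
theorem LBij.nonempty_overIso [(J.over U).WEqualsLocallyBijective (ModuleCat.{u} Λ)] (h : LBij F U s) :
    Nonempty (F.over U ≅ (constantSheaf (J.over U) (ModuleCat.{u} Λ)).obj (ModuleCat.of Λ M)) := by
  obtain ⟨h₁, h₂⟩ := h.locallyBijective
  have h' : IsIso ((presheafToSheaf (J.over U) (ModuleCat.{u} Λ)).map (overMap F U s)) :=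
    (GrothendieckTopology.W_iff _ _).1 ((J.over U).W_of_isLocallyBijective _)
  exact ⟨(@asIso _ _ _ _ _ (@IsIso.comp_isIso _ _ _ _ _ _
    ((sheafificationAdjunction (J.over U) (ModuleCat.{u} Λ)).counit.app (F.over U)) h' inferInstance)).symm⟩

/-- A trivialization of the restriction comes from locally bijective linear sections. -/
theorem exists_lBij_of_overIso
    [∀ P : (Over U)ᵒᵖ ⥤ ModuleCat.{u} Λ, Presheaf.IsLocallyInjective (J.over U) (CategoryTheory.toSheafify (J.over U) P)]
    [∀ P : (Over U)ᵒᵖ ⥤ ModuleCat.{u} Λ, Presheaf.IsLocallySurjective (J.over U) (CategoryTheory.toSheafify (J.over U) P)]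
    (e : F.over U ≅ (constantSheaf (J.over U) (ModuleCat.{u} Λ)).obj (ModuleCat.of Λ M)) :
    ∃ s : M →ₗ[Λ] F.obj.obj (op U), LBij F U s := by
  let ψ : (Functor.const (Over U)ᵒᵖ).obj (ModuleCat.of Λ M) ⟶ (F.over U).obj :=
    CategoryTheory.toSheafify _ _ ≫ e.inv.hom
  let s : M →ₗ[Λ] F.obj.obj (op U) := (ψ.app (op (Over.mk (𝟙 U)))).hom
  have hψ : ∀ (Y : (Over U)ᵒᵖ) (a : M), ψ.app Y a = F.obj.map Y.unop.hom.op (s a) := fun Y a => by
    let φ : Y.unop ⟶ Over.mk (𝟙 U) := Over.homMk Y.unop.hom (Category.comp_id _)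
    exact NatTrans.naturality_apply ψ φ.op a
  have hbij : ∀ Y, Function.Bijective (e.inv.hom.app Y) := fun Y =>
    (((sheafToPresheaf _ _).mapIso e.symm).app Y).toLinearEquiv.bijective
  refine ⟨s, ⟨fun {Y} h a ha hne => ?_, fun {Y} h σ => ?_⟩⟩
  · have h' : ψ.app (op (Over.mk h)) a = ψ.app (op (Over.mk h)) 0 :=
      (hψ _ a).trans (ha.trans (map_zero _).symm)
    have hm := Presheaf.equalizerSieve_mem (J.over U)
      (CategoryTheory.toSheafify (J.over U) ((Functor.const (Over U)ᵒᵖ).obj (ModuleCat.of Λ M)))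
      a 0 ((hbij (op (Over.mk h))).1 h')
    rw [GrothendieckTopology.mem_over_iff] at hm
    refine J.superset_covering ?_ hm
    intro Z k hk
    exact (hne ((Sieve.overEquiv_iff _ _).1 hk)).elim
  · obtain ⟨y, hy⟩ := (hbij (op (Over.mk h))).2 σ
    have hm := Presheaf.imageSieve_mem (J.over U)
      (CategoryTheory.toSheafify (J.over U) ((Functor.const (Over U)ᵒᵖ).obj (ModuleCat.of Λ M)))
      (U := op (Over.mk h)) y
    rw [GrothendieckTopology.mem_over_iff] at hm
    refine J.superset_covering ?_ hm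
    intro Z k hk
    obtain ⟨a, ha⟩ := (Sieve.overEquiv_iff _ _).1 hk
    let k' : Over.mk (k ≫ h) ⟶ Over.mk h := Over.homMk k
    refine ⟨a, ?_⟩
    rw [← hy]
    refine (Functor.map_comp_apply F.obj h.op k.op (s a)).symm.trans ((hψ (op (Over.mk (k ≫ h))) a).symm.trans ?_)
    exact (congrArg (e.inv.hom.app (op (Over.mk (k ≫ h)))) ha).trans (NatTrans.naturality_apply e.inv.hom k'.op y)

end

section

variable (hU : IsTerminal U)

/-- The map from the constant presheaf given by linear sections over a terminal object. -/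
noncomputable def toGlobal (F : Sheaf J (ModuleCat.{u} Λ)) (U : C) (hU : IsTerminal U)
    (s : M →ₗ[Λ] F.obj.obj (op U)) : (Functor.const Cᵒᵖ).obj (ModuleCat.of Λ M) ⟶ F.obj where
  app Y := ModuleCat.ofHom ((F.obj.map (hU.from Y.unop).op).hom.comp s)
  naturality Y Y' φ := by
    ext a
    show F.obj.map (hU.from Y'.unop).op (s a) = F.obj.map φ (F.obj.map (hU.from Y.unop).op (s a))
    rw [← Functor.map_comp_apply]
    exact congrArg (fun k => F.obj.map k (s a)) (Quiver.Hom.unop_inj (hU.hom_ext _ _))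

include hU in
/-- Locally bijective linear sections over the terminal object trivialize the sheaf. -/
theorem LBij.nonempty_constIso [HasWeakSheafify J (ModuleCat.{u} Λ)]
    [J.WEqualsLocallyBijective (ModuleCat.{u} Λ)] (h : LBij F U s) :
    Nonempty ((constantSheaf J (ModuleCat.{u} Λ)).obj (ModuleCat.of Λ M) ≅ F) := by
  have h₁ : Presheaf.IsLocallyInjective J (toGlobal F U hU s) := ⟨fun {Y} a b e => by
    by_cases hab : a = b
    · subst hab
      refine J.superset_covering ?_ (J.top_mem _)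
      intro Z k _
      rfl
    · refine J.superset_covering bot_le (h.inj (hU.from Y.unop) (a - b) ?_ (sub_ne_zero.2 hab))
      rw [map_sub, map_sub]
      exact sub_eq_zero.2 e⟩
  have h₂ : Presheaf.IsLocallySurjective J (toGlobal F U hU s) := ⟨fun {Y} σ => by
    refine J.superset_covering ?_ (h.surj (hU.from Y) σ)
    rintro Z k ⟨a, ha⟩
    refine ⟨a, ?_⟩
    refine Eq.trans ?_ ha
    show F.obj.map (hU.from Z).op (s a) = F.obj.map k.op (F.obj.map (hU.from Y).op (s a))
    rw [← Functor.map_comp_apply, ← op_comp, hU.hom_ext (hU.from Z) (k ≫ hU.from Y)]⟩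
  have h' : IsIso ((presheafToSheaf J (ModuleCat.{u} Λ)).map (toGlobal F U hU s)) :=
    (GrothendieckTopology.W_iff _ _).1 (J.W_of_isLocallyBijective _)
  exact ⟨@asIso _ _ _ _ _ (@IsIso.comp_isIso _ _ _ _ _ _
    ((sheafificationAdjunction J (ModuleCat.{u} Λ)).counit.app F) h' inferInstance)⟩

/-- A trivialization gives locally bijective linear sections over the terminal object. -/
theorem exists_lBij_of_constIso [HasWeakSheafify J (ModuleCat.{u} Λ)]
    [∀ P : Cᵒᵖ ⥤ ModuleCat.{u} Λ, Presheaf.IsLocallyInjective J (CategoryTheory.toSheafify J P)]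
    [∀ P : Cᵒᵖ ⥤ ModuleCat.{u} Λ, Presheaf.IsLocallySurjective J (CategoryTheory.toSheafify J P)]
    (e : (constantSheaf J (ModuleCat.{u} Λ)).obj (ModuleCat.of Λ M) ≅ F) :
    ∃ s : M →ₗ[Λ] F.obj.obj (op U), LBij F U s := by
  let ψ : (Functor.const Cᵒᵖ).obj (ModuleCat.of Λ M) ⟶ F.obj :=
    CategoryTheory.toSheafify _ _ ≫ e.hom.hom
  let s : M →ₗ[Λ] F.obj.obj (op U) := (ψ.app (op U)).hom
  have hψ : ∀ (Y : C) (h : Y ⟶ U) (a : M), ψ.app (op Y) a = F.obj.map h.op (s a) := fun Y h a =>
    NatTrans.naturality_apply ψ h.op a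
  have hbij : ∀ Y, Function.Bijective (e.hom.hom.app Y) := fun Y =>
    (((sheafToPresheaf _ _).mapIso e).app Y).toLinearEquiv.bijective
  refine ⟨s, ⟨fun {Y} h a ha hne => ?_, fun {Y} h σ => ?_⟩⟩
  · have h' : ψ.app (op Y) a = ψ.app (op Y) 0 := (hψ Y h a).trans (ha.trans (map_zero _).symm)
    refine J.superset_covering ?_ (Presheaf.equalizerSieve_mem J
      (CategoryTheory.toSheafify J ((Functor.const Cᵒᵖ).obj (ModuleCat.of Λ M))) a 0
      ((hbij (op Y)).1 h'))
    intro Z k hk
    exact (hne hk).elim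
  · obtain ⟨y, hy⟩ := (hbij (op Y)).2 σ
    refine J.superset_covering ?_ (Presheaf.imageSieve_mem J
      (CategoryTheory.toSheafify J ((Functor.const Cᵒᵖ).obj (ModuleCat.of Λ M))) (U := op Y) y)
    rintro Z k ⟨a, ha⟩
    refine ⟨a, ?_⟩
    rw [← hy]
    refine (Functor.map_comp_apply F.obj h.op k.op (s a)).symm.trans ((hψ Z (k ≫ h) a).symm.trans ?_)
    exact (congrArg (e.hom.hom.app (op Z)) ha).trans (NatTrans.naturality_apply e.hom.hom k.op y)

end

/-- Isomorphisms of sheaves preserve locally bijective sections. -/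
theorem LBij.of_iso {G : Sheaf J (ModuleCat.{u} Λ)} (e : F ≅ G) (h : LBij F U s) :
    LBij G U ((e.hom.hom.app (op U)).hom.comp s) := by
  have hb : ∀ Y, Function.Bijective (e.hom.hom.app Y) := fun Y =>
    (((sheafToPresheaf _ _).mapIso e).app Y).toLinearEquiv.bijective
  refine ⟨fun {Y} k a ha hne => h.inj k a ((hb (op Y)).1 ?_) hne, fun {Y} k σ => ?_⟩
  · rw [map_zero]
    exact (NatTrans.naturality_apply e.hom.hom k.op (s a)).trans ha
  · obtain ⟨τ, rfl⟩ := (hb (op Y)).2 σ
    refine J.superset_covering ?_ (h.surj k τ)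
    rintro Z g ⟨a, ha⟩
    refine ⟨a, ?_⟩
    refine Eq.trans ?_ ((congrArg (e.hom.hom.app (op Z)) ha).trans (NatTrans.naturality_apply e.hom.hom g.op τ))
    rw [← Functor.map_comp_apply, ← Functor.map_comp_apply]
    exact (NatTrans.naturality_apply e.hom.hom (k.op ≫ g.op) (s a)).symm

/-- Restriction of locally bijective sections. -/
theorem LBij.res (h : LBij F U s) {V : C} (g : V ⟶ U) : LBij F V ((F.obj.map g.op).hom.comp s) := by
  refine ⟨fun {Y} k a ha hne => h.inj (k ≫ g) a ?_ hne, fun {Y} k σ => ?_⟩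
  · rw [op_comp, Functor.map_comp]
    exact ha
  · refine J.superset_covering ?_ (h.surj (k ≫ g) σ)
    rintro Z q ⟨a, ha⟩
    refine ⟨a, ?_⟩
    rw [op_comp, Functor.map_comp] at ha
    exact ha

end Groth.EtaleDeep.LocConstP
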