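import Groth.Agent.EtaleDeep.AdicP.EssImage
import Groth.Agent.EtaleDeep.Eps.Push
import Groth.Agent.EtaleDeep.Eps.Colim
import Groth.Agent.EtaleDeep.Eps.TowerIE
import Groth.Agent.EtaleDeep.Eps.Stage

/-!
# Sheaves pulled back from the etale site descend along pro-etale coverings
-/

set_option autoImplicit false
set_option backward.isDefEq.respectTransparency.types false
set_option linter.style.haveILetI false

universe u

open CategoryTheory CategoryTheory.Limits AlgebraicGeometry Opposite

namespace Groth.EtaleDeep.LocConstP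

open Groth.EtaleDeep.Eps Groth.EtaleDeep.AdicP

attribute [local instance] ProEtSite.pCont ProEtSite.epsCont jpCont

variable {Λ : Type (u + 1)} [CommRing Λ]

/-- Sections commute with limits of systems of affine objects. -/
def SectColim {X : Scheme.{u}} (G : EtModW.ModP Λ X) : Prop :=
  ∀ (K : Type u) [SmallCategory K] [IsCofiltered K] (V : X.ProEt) (S : LimSys K V),
    (∀ k, IsAffine (S.D.obj k).left) →
    (∀ s : G.obj.obj (op V), ∃ (k : K) (y : G.obj.obj (op (S.D.obj k))), G.obj.map (S.π k).op y = s) ∧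
    (∀ (k : K) (y : G.obj.obj (op (S.D.obj k))), G.obj.map (S.π k).op y = 0 →
      ∃ (j : K) (f : j ⟶ k), G.obj.map (S.D.map f).op y = 0)

/-- Sheaves pulled back from the etale site have the property. -/
theorem sectColim_of_isEtPulled {X : Scheme.{u}} {G : EtModW.ModP Λ X} (hG : IsEtPulled Λ G) :
    SectColim G := by
  intro K _ _ V S _
  have h := (Eps.essImage_epsPullMod_iff Λ G).1 hG
  let F := h.witness
  let e : ((Eps.toAbP Λ X).obj G).obj ≅ shL F :=
    (sheafToPresheaf _ _).mapIso (h.getIso.symm ≪≫ epsIso F)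
  have he : ∀ W, Function.Bijective (e.hom.app W) := fun W =>
    (ConcreteCategory.isIso_iff_bijective (e.hom.app W)).1 inferInstance
  refine ⟨fun s => ?_, fun k y hy => ?_⟩
  · obtain ⟨k, y, hy⟩ := S.shL_exists_map_eq (F := F) (e.hom.app (op V) s)
    obtain ⟨y', rfl⟩ := (he (op (S.D.obj k))).2 y
    refine ⟨k, y', (he (op V)).1 ?_⟩
    exact (NatTrans.naturality_apply e.hom (S.π k).op y').trans hy
  · have h0 : (shL F).map (S.π k).op (e.hom.app (op (S.D.obj k)) y) = 0 := by
      rw [← NatTrans.naturality_apply e.hom]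
      exact (congrArg (e.hom.app (op V)) hy).trans (map_zero _)
    obtain ⟨j, f, hj⟩ := S.shL_exists_map_eq_zero F _ h0
    refine ⟨j, f, (injective_iff_map_eq_zero (e.hom.app (op (S.D.obj j))).hom).1 (he (op (S.D.obj j))).1 _ ?_⟩
    change e.hom.app (op (S.D.obj j)) (((Eps.toAbP Λ X).obj G).obj.map (S.D.map f).op y) = 0
    rw [NatTrans.naturality_apply e.hom]
    exact hj

variable {X : Scheme.{u}} {G : EtModW.ModP Λ X}

/-- Objects over which the sheaf is pulled back from the etale site. -/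
def Good (G : EtModW.ModP Λ X) (W : X.ProEt) : Prop :=
  ClassicalOn Λ G W.hom

theorem Good.of_hom {W W' : X.ProEt} (f : W' ⟶ W) (h : Good G W) : Good G W' := by
  have := stable_classicalOn Λ G f.left W.hom h
  rwa [MorphismProperty.Over.w f] at this

section

variable {K : Type u} [SmallCategory K] [IsCofiltered K] {V : X.ProEt} (S : LimSys K V)
  {k : K} {W : X.ProEt} (g : W ⟶ S.D.obj k)

/-- Continuity along a base change to an object over which the sheaf is pulled back. -/
theorem sectColim_bc [∀ j, IsAffine (S.D.obj j).left] [IsAffine W.left] (hW : Good G W) :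
    (∀ s : G.obj.obj (op (S.bcPt g)), ∃ (j : Over k) (y : G.obj.obj (op (S.bcObj g j))),
      G.obj.map (S.bcπ g j).op y = s) ∧
    (∀ (j : Over k) (y : G.obj.obj (op (S.bcObj g j))), G.obj.map (S.bcπ g j).op y = 0 →
      ∃ (i : Over k) (f : i ⟶ j), G.obj.map (S.bcMap g f).op y = 0) := by
  have : WeaklyEtale W.hom := W.prop
  obtain ⟨ε⟩ := nonempty_restrPM_iso_pullPM Λ W.hom
  have hcl : IsEtPulled Λ ((restrPM Λ W.hom).obj G) := classical_of_iso Λ (ε.app G).symm hW
  have hwe : ∀ j : Over k, WeaklyEtale (pullback.fst g.left (S.D.map j.hom).left) := fun j =>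
    MorphismProperty.pullback_fst _ _ (ProEt.weaklyEtale_left (S.D.map j.hom))
  have : WeaklyEtale (pullback.fst g.left (S.π k).left) :=
    MorphismProperty.pullback_fst _ _ (ProEt.weaklyEtale_left (S.π k))
  let D' : Over k ⥤ W.left.ProEt :=
    { obj := fun j => have := hwe j; Scheme.ProEt.mk (pullback.fst g.left (S.D.map j.hom).left)
      map := fun {i j} f => MorphismProperty.Over.homMk (S.bcMap g f).left
        (congrArg (fun m => m.left) (S.bcMap_fst g f))
      map_id := fun j => MorphismProperty.Over.Hom.ext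
        (congrArg (fun m => m.left) ((S.bcD g).map_id j))
      map_comp := fun f f' => MorphismProperty.Over.Hom.ext
        (congrArg (fun m => m.left) ((S.bcD g).map_comp f f')) }
  have haff : ∀ j, IsAffine (D'.obj j).left := fun j =>
    inferInstanceAs (IsAffine (pullback g.left (S.D.map j.hom).left))
  let S' : LimSys (Over k) (Scheme.ProEt.mk (pullback.fst g.left (S.π k).left) : W.left.ProEt) :=
    { D := D'
      compact := fun j => have := haff j; inferInstance
      qsep := fun j => have := haff j; inferInstance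
      affineHom := fun f => S.isAffineHom_bcD g f
      π := fun j => MorphismProperty.Over.homMk (S.bcπ g j).left
        (congrArg (fun m => m.left) (S.bcπ_fst g j))
      π_w := fun f => MorphismProperty.Over.Hom.ext (congrArg (fun m => m.left) (S.bcπ_w g f))
      isLimit := IsLimit.ofIsoLimit (S.nonempty_isLimit_bcCone g).some
        (Cone.ext (Iso.refl _) fun j => (Category.id_comp _).symm) }
  obtain ⟨hs, hz⟩ := sectColim_of_isEtPulled hcl (Over k) _ S' haff
  have hπ : ∀ j, (ProEtS.compP W.hom).map (S'.π j) = S.bcπ g j :=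
    fun j => MorphismProperty.Over.Hom.ext rfl
  have hmap : ∀ {i j : Over k} (f : i ⟶ j), (ProEtS.compP W.hom).map (D'.map f) = S.bcMap g f :=
    fun f => MorphismProperty.Over.Hom.ext rfl
  refine ⟨fun s => ?_, fun j y hy => ?_⟩
  · obtain ⟨j, y, hy⟩ := hs s
    refine ⟨j, y, ?_⟩
    rw [← hπ j]
    exact hy
  · obtain ⟨i, f, hf⟩ := hz j y (by rw [← hπ j] at hy; exact hy)
    refine ⟨i, f, ?_⟩
    rw [← hmap f]
    exact hf

end

/-- Continuity of sections is local for the pro-etale topology. -/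
theorem sectColim_of_local
    (hloc : ∀ T : X.ProEt, IsAffine T.left → ∃ (n : ℕ) (W : Fin n → X.ProEt) (g : ∀ a, W a ⟶ T),
      (∀ a, IsAffine (W a).left) ∧ (∀ x : T.left, ∃ a, x ∈ Set.range (g a).left) ∧
      ∀ a, Good G (W a)) : SectColim G := by
  classical
  intro K _ _ V S haff
  have := haff
  have hsheaf := (isSheaf_iff_isSheaf_of_type _ _).1
    ((sheafCompose (Scheme.ProEt.topology X) (CategoryTheory.forget (ModuleCat.{u + 1} Λ))).obj G).property
  -- the covering of a stage by base changes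
  have hcover : ∀ (k : K) (n : ℕ) (W : Fin n → X.ProEt) (g : ∀ a, W a ⟶ S.D.obj k),
      (∀ a, IsAffine (W a).left) → (∀ x : (S.D.obj k).left, ∃ a, x ∈ Set.range (g a).left) →
      ∀ o : Over k, Sieve.generate (Presieve.ofArrows (fun a : ULift.{u} (Fin n) => S.bcObj (g a.down) o)
        fun a => S.bcSnd (g a.down) o) ∈ Scheme.ProEt.topology X (S.D.obj o.left) := by
    intro k n W g hW hcov o
    have : ∀ a : ULift.{u} (Fin n), IsAffine (S.bcObj (g a.down) o).left := fun a =>
      have := hW a.down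
      inferInstanceAs (IsAffine (pullback (g a.down).left (S.D.map o.hom).left))
    refine affine_family_mem_topology_of_qs _ _ fun x => ?_
    obtain ⟨a, p, hp⟩ := hcov ((S.D.map o.hom).left x)
    obtain ⟨z, -, hz⟩ := Scheme.Pullback.exists_preimage_pullback (f := (g a).left)
      (g := (S.D.map o.hom).left) p x hp
    exact ⟨⟨a⟩, z, hz⟩
  have hinj : ∀ (k : K) (y : G.obj.obj (op (S.D.obj k))), G.obj.map (S.π k).op y = 0 →
      ∃ (j : K) (f : j ⟶ k), G.obj.map (S.D.map f).op y = 0 := by
    intro k y hy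
    obtain ⟨n, W, g, hW, hcov, hgood⟩ := hloc (S.D.obj k) (haff k)
    let top : Over k := Over.mk (𝟙 k)
    have hk : ∀ a, ∃ (i : Over k) (f : i ⟶ top),
        G.obj.map (S.bcMap (g a) f).op (G.obj.map (S.bcFst (g a) top ≫ g a).op y) = 0 := fun a => by
      have := hW a
      refine (sectColim_bc S (g a) (hgood a)).2 top _ ?_
      rw [← Functor.map_comp_apply, ← op_comp, ← Category.assoc, S.bcπ_fst, S.bcPt_condition, op_comp,
        Functor.map_comp_apply, hy, map_zero]
    choose i f hf using hk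
    obtain ⟨o, ho⟩ := IsCofiltered.inf_objs_exists (Finset.univ.image i)
    refine ⟨o.left, o.hom, (hsheaf _ (hcover k n W g hW hcov o)).isSeparatedFor.ext ?_⟩
    rintro Z q ⟨Z', b, c, ⟨a⟩, rfl⟩
    change G.obj.map (b ≫ S.bcSnd (g a.down) o).op (G.obj.map (S.D.map o.hom).op y) =
      G.obj.map (b ≫ S.bcSnd (g a.down) o).op 0
    obtain ⟨fo⟩ := ho (Finset.mem_image_of_mem i (Finset.mem_univ a.down))
    rw [map_zero, ← Functor.map_comp_apply, ← op_comp, Category.assoc, ← S.bc_condition,
      ← S.bcMap_fst (g a.down) (fo ≫ f a.down), Category.assoc, op_comp, Functor.map_comp_apply,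
      op_comp, Functor.map_comp_apply, show S.bcMap (g a.down) (fo ≫ f a.down) =
        S.bcMap (g a.down) fo ≫ S.bcMap (g a.down) (f a.down) from (S.bcD (g a.down)).map_comp fo _,
      op_comp, Functor.map_comp_apply, hf, map_zero, map_zero]
  refine ⟨fun s => ?_, hinj⟩
  let k : K := IsCofiltered.nonempty.some
  obtain ⟨n, W, g, hW, hcov, hgood⟩ := hloc (S.D.obj k) (haff k)
  have h1 : ∀ a, ∃ (j : Over k) (y : G.obj.obj (op (S.bcObj (g a) j))),
      G.obj.map (S.bcπ (g a) j).op y = G.obj.map (S.bcPtSnd (g a)).op s := fun a => by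
    have := hW a
    exact (sectColim_bc S (g a) (hgood a)).1 _
  choose j₀ y₀ hy₀ using h1
  obtain ⟨o₁, ho₁⟩ := IsCofiltered.inf_objs_exists (Finset.univ.image j₀)
  obtain ⟨y₁, hy₁⟩ : ∃ y₁ : ∀ a, G.obj.obj (op (S.bcObj (g a) o₁)),
      ∀ a, G.obj.map (S.bcπ (g a) o₁).op (y₁ a) = G.obj.map (S.bcPtSnd (g a)).op s := by
    refine ⟨fun a => G.obj.map
      (S.bcMap (g a) (ho₁ (Finset.mem_image_of_mem j₀ (Finset.mem_univ a))).some).op (y₀ a), fun a => ?_⟩
    refine (Functor.map_comp_apply G.obj _ _ _).symm.trans ?_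
    rw [← op_comp, S.bcπ_w]
    exact hy₀ a
  -- overlaps
  have hwe : ∀ a b, WeaklyEtale (pullback.fst (g a).left (g b).left ≫ (W a).hom) := fun a b =>
    MorphismProperty.comp_mem @WeaklyEtale _ _
      (MorphismProperty.pullback_fst _ _ (ProEt.weaklyEtale_left (g b))) (W a).prop
  let P : Fin n → Fin n → X.ProEt := fun a b =>
    have := hwe a b
    Scheme.ProEt.mk (pullback.fst (g a).left (g b).left ≫ (W a).hom)
  let p₁ : ∀ a b, P a b ⟶ W a := fun a b => MorphismProperty.Over.homMk (pullback.fst _ _) rfl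
  let p₂ : ∀ a b, P a b ⟶ W b := fun a b => MorphismProperty.Over.homMk (pullback.snd _ _) (by
    change pullback.snd _ _ ≫ (W b).hom = pullback.fst _ _ ≫ (W a).hom
    rw [← MorphismProperty.Over.w (g a), ← MorphismProperty.Over.w (g b), pullback.condition_assoc])
  have hp : ∀ a b, p₁ a b ≫ g a = p₂ a b ≫ g b := fun a b =>
    MorphismProperty.Over.Hom.ext pullback.condition
  have hd : ∀ a b, ∃ (i : Over k) (f : i ⟶ o₁), ∀ (Z : X.ProEt) (za : Z ⟶ S.bcObj (g a) i)
      (zb : Z ⟶ S.bcObj (g b) i), za ≫ S.bcSnd (g a) i = zb ≫ S.bcSnd (g b) i →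
      G.obj.map (za ≫ S.bcMap (g a) f).op (y₁ a) = G.obj.map (zb ≫ S.bcMap (g b) f).op (y₁ b) := by
    intro a b
    let gP := p₁ a b ≫ g a
    have := hW a
    have := hW b
    have : IsAffine (P a b).left :=
      have := haff k
      inferInstanceAs (IsAffine (pullback (g a).left (g b).left))
    obtain ⟨q₁, hq₁, hq₁'⟩ := S.bc_exists_lift (g a) (S.bcFst gP o₁ ≫ p₁ a b) (S.bcSnd gP o₁)
      (by rw [Category.assoc]; exact S.bc_condition gP o₁)
    obtain ⟨q₂, hq₂, hq₂'⟩ := S.bc_exists_lift (g b) (S.bcFst gP o₁ ≫ p₂ a b) (S.bcSnd gP o₁)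
      (by rw [Category.assoc, ← hp]; exact S.bc_condition gP o₁)
    obtain ⟨r₁, hr₁, hr₁'⟩ := S.bcPt_exists_lift (g a) (S.bcPtFst gP ≫ p₁ a b) (S.bcPtSnd gP)
      (by rw [Category.assoc]; exact S.bcPt_condition gP)
    obtain ⟨r₂, hr₂, hr₂'⟩ := S.bcPt_exists_lift (g b) (S.bcPtFst gP ≫ p₂ a b) (S.bcPtSnd gP)
      (by rw [Category.assoc, ← hp]; exact S.bcPt_condition gP)
    have e₁ : S.bcπ gP o₁ ≫ q₁ = r₁ ≫ S.bcπ (g a) o₁ := S.bc_hom_ext _
      (by rw [Category.assoc, Category.assoc, hq₁, S.bcπ_fst, hr₁, ← Category.assoc, S.bcπ_fst])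
      (by rw [Category.assoc, Category.assoc, hq₁', S.bcπ_snd, S.bcπ_snd, ← Category.assoc, hr₁'])
    have e₂ : S.bcπ gP o₁ ≫ q₂ = r₂ ≫ S.bcπ (g b) o₁ := S.bc_hom_ext _
      (by rw [Category.assoc, Category.assoc, hq₂, S.bcπ_fst, hr₂, ← Category.assoc, S.bcπ_fst])
      (by rw [Category.assoc, Category.assoc, hq₂', S.bcπ_snd, S.bcπ_snd, ← Category.assoc, hr₂'])
    obtain ⟨i, f, hf⟩ := (sectColim_bc S gP ((hgood a).of_hom (p₁ a b))).2 o₁
      (G.obj.map q₁.op (y₁ a) - G.obj.map q₂.op (y₁ b)) (by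
        have c₁ : G.obj.map (S.bcπ gP o₁).op (G.obj.map q₁.op (y₁ a)) = G.obj.map (S.bcPtSnd gP).op s := by
          rw [← Functor.map_comp_apply, ← op_comp, e₁, op_comp, Functor.map_comp_apply, hy₁,
            ← Functor.map_comp_apply, ← op_comp, hr₁']
        have c₂ : G.obj.map (S.bcπ gP o₁).op (G.obj.map q₂.op (y₁ b)) = G.obj.map (S.bcPtSnd gP).op s := by
          rw [← Functor.map_comp_apply, ← op_comp, e₂, op_comp, Functor.map_comp_apply, hy₁,
            ← Functor.map_comp_apply, ← op_comp, hr₂']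
        rw [map_sub, c₁, c₂, sub_self])
    refine ⟨i, f, fun Z za zb hz => ?_⟩
    obtain ⟨zP, hzP₁, hzP₂⟩ : ∃ l : Z ⟶ P a b, l ≫ p₁ a b = za ≫ S.bcFst (g a) i ∧
        l ≫ p₂ a b = zb ≫ S.bcFst (g b) i := by
      have h : (za ≫ S.bcFst (g a) i) ≫ g a = (zb ≫ S.bcFst (g b) i) ≫ g b := by
        rw [Category.assoc, Category.assoc, S.bc_condition, S.bc_condition, ← Category.assoc, hz,
          Category.assoc]
      exact ⟨MorphismProperty.Over.homMk (pullback.lift (za ≫ S.bcFst (g a) i).left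
          (zb ≫ S.bcFst (g b) i).left (congrArg (fun m => m.left) h))
          ((pullback.lift_fst_assoc _ _ _ _).trans (MorphismProperty.Over.w (za ≫ S.bcFst (g a) i))),
        MorphismProperty.Over.Hom.ext (pullback.lift_fst _ _ _),
        MorphismProperty.Over.Hom.ext (pullback.lift_snd _ _ _)⟩
    obtain ⟨l, hl, hl'⟩ := S.bc_exists_lift gP zP (za ≫ S.bcSnd (g a) i)
      (by rw [← Category.assoc, hzP₁, Category.assoc, Category.assoc, S.bc_condition])
    have k₁ : za ≫ S.bcMap (g a) f = (l ≫ S.bcMap gP f) ≫ q₁ := S.bc_hom_ext _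
      (by simp only [Category.assoc, hq₁, S.bcMap_fst, reassoc_of% (S.bcMap_fst gP f)]
          rw [reassoc_of% hl, hzP₁])
      (by simp only [Category.assoc, hq₁', S.bcMap_snd]
          rw [reassoc_of% hl'])
    have k₂ : zb ≫ S.bcMap (g b) f = (l ≫ S.bcMap gP f) ≫ q₂ := S.bc_hom_ext _
      (by simp only [Category.assoc, hq₂, S.bcMap_fst, reassoc_of% (S.bcMap_fst gP f)]
          rw [reassoc_of% hl, hzP₂])
      (by simp only [Category.assoc, hq₂', S.bcMap_snd]
          rw [reassoc_of% hl', reassoc_of% hz])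
    rw [k₁, k₂, ← sub_eq_zero]
    simp only [op_comp, Functor.map_comp_apply, ← map_sub, hf, map_zero]
  choose i₂ f₂ hf₂ using hd
  let O : Finset (Over k) := insert o₁ (Finset.univ.image fun p : Fin n × Fin n => i₂ p.1 p.2)
  have hO₁ : o₁ ∈ O := Finset.mem_insert_self _ _
  have hO₂ : ∀ p : Fin n × Fin n, i₂ p.1 p.2 ∈ O := fun p =>
    Finset.mem_insert_of_mem (Finset.mem_image_of_mem _ (Finset.mem_univ p))
  obtain ⟨o, T, hT⟩ := IsCofiltered.inf_exists O
    (Finset.univ.image fun p : Fin n × Fin n => ⟨i₂ p.1 p.2, o₁, hO₂ p, hO₁, f₂ p.1 p.2⟩)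
  let φ : o ⟶ o₁ := T hO₁
  have hsf := (Presieve.isSheafFor_iff_generate _).2 (hsheaf _ (hcover k n W g hW hcov o))
  rw [Presieve.isSheafFor_arrows_iff] at hsf
  obtain ⟨y, hy, -⟩ := hsf (fun a => G.obj.map (S.bcMap (g a.down) φ).op (y₁ a.down))
    fun a b Z za zb hab => by
      let fo : o ⟶ i₂ a.down b.down := T (hO₂ (a.down, b.down))
      have hφ : φ = fo ≫ f₂ a.down b.down := (hT (hO₂ (a.down, b.down)) hO₁
        (Finset.mem_image_of_mem (fun p : Fin n × Fin n =>
          (⟨i₂ p.1 p.2, o₁, hO₂ p, hO₁, f₂ p.1 p.2⟩ : Σ' (X Y : Over k) (_ : X ∈ O) (_ : Y ∈ O), X ⟶ Y))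
          (Finset.mem_univ (a.down, b.down)))).symm
      change G.obj.map za.op (G.obj.map (S.bcMap _ φ).op _) = G.obj.map zb.op (G.obj.map (S.bcMap _ φ).op _)
      have hm : ∀ c : Fin n, S.bcMap (g c) φ = S.bcMap (g c) fo ≫ S.bcMap (g c) (f₂ a.down b.down) :=
        fun c => by
          rw [hφ]
          exact (S.bcD (g c)).map_comp _ _
      rw [hm, hm]
      simp only [← Functor.map_comp_apply, ← op_comp, ← Category.assoc]
      refine hf₂ a.down b.down Z _ _ ?_
      rw [Category.assoc, Category.assoc, S.bcMap_snd, S.bcMap_snd, reassoc_of% hab]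
  refine ⟨o.left, y, (hsheaf _ ((Scheme.ProEt.topology X).pullback_stable (S.π o.left)
    (hcover k n W g hW hcov o))).isSeparatedFor.ext ?_⟩
  intro Z x hx
  obtain ⟨Z', b, _, ⟨a⟩, hb⟩ := hx
  change G.obj.map x.op (G.obj.map (S.π o.left).op y) = G.obj.map x.op s
  rw [← Functor.map_comp_apply, ← op_comp, ← hb, op_comp, Functor.map_comp_apply,
    show G.obj.map (S.bcSnd (g a.down) o).op y = _ from hy a]
  obtain ⟨l, hl, hl'⟩ := S.bcPt_exists_lift (g a.down) (b ≫ S.bcFst (g a.down) o) x (by
    rw [Category.assoc, S.bc_condition, reassoc_of% hb, S.π_w])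
  have e : b ≫ S.bcMap (g a.down) φ = l ≫ S.bcπ (g a.down) o₁ := S.bc_hom_ext _
    (by rw [Category.assoc, Category.assoc, S.bcMap_fst, S.bcπ_fst, hl])
    (by rw [Category.assoc, Category.assoc, S.bcMap_snd, S.bcπ_snd, reassoc_of% hl', reassoc_of% hb,
      S.π_w])
  rw [← Functor.map_comp_apply, ← op_comp, e, op_comp, Functor.map_comp_apply, hy₁,
    ← Functor.map_comp_apply, ← op_comp, hl']

/-- Continuous sheaves are pulled back from the etale site. -/
theorem isEtPulled_of_sectColim (hG : SectColim G) : IsEtPulled Λ G := by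
  let adj := Eps.epsAdjMod Λ (X := X)
  let R := (ProEtS.eps X).sheafPushforwardContinuous (ModuleCat.{u + 1} Λ) X.smallEtaleTopology
    (Scheme.ProEt.topology X)
  let c := adj.counit.app G
  have : ∀ F, IsIso (adj.unit.app F) := Eps.isIso_unitMod Λ
  have hRc : IsIso (R.map c) :=
    have := adj.right_triangle_components G
    IsIso.of_isIso_fac_left this
  have hP : SectColim ((EtModW.epsPullMod Λ X).obj (R.obj G)) :=
    sectColim_of_isEtPulled ((EtModW.epsPullMod Λ X).obj_mem_essImage _)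
  have hE : ∀ E : X.Etale, Function.Bijective (c.hom.app (op ((ProEtS.eps X).obj E))) := fun E => by
    have : IsIso ((R.map c).hom.app (op E)) :=
      inferInstanceAs (IsIso (((sheafToPresheaf _ _).map (R.map c)).app (op E)))
    exact (ConcreteCategory.isIso_iff_bijective _).1 this
  have : IsIso ((Eps.toAbP Λ X).map c) := isIso_of_bijective_IE _ fun V hV => by
    obtain ⟨T⟩ := hV.nonempty_tower
    let S : LimSys T.J V :=
      { D := T.D ⋙ ProEtS.eps X
        compact := fun j => have := T.isAffine j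
                            inferInstanceAs (CompactSpace (T.D.obj j).left)
        qsep := fun j => have := T.isAffine j
                         inferInstanceAs (QuasiSeparatedSpace (T.D.obj j).left)
        affineHom := fun {i j} f => have := T.isAffine i
                                    have := T.isAffine j
                                    isAffineHom_of_isAffine (T.D.map f).left
        π := T.π
        π_w := fun f => MorphismProperty.Over.Hom.ext (T.π_w f)
        isLimit := IsLimit.ofIsoLimit T.isLimit (Cone.ext (Iso.refl _) fun _ => (Category.id_comp _).symm) }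
    obtain ⟨h1, -⟩ := hG T.J V S T.isAffine
    obtain ⟨h2, -⟩ := hP T.J V S T.isAffine
    refine ⟨?_, fun s => ?_⟩
    · refine (injective_iff_map_eq_zero ((c.hom.app (op V)).hom)).2 fun x hx => ?_
      obtain ⟨j, y, rfl⟩ := h2 x
      have h0 : G.obj.map (S.π j).op (c.hom.app _ y) = 0 :=
        (NatTrans.naturality_apply c.hom (S.π j).op y).symm.trans hx
      obtain ⟨i, f, hf⟩ := (hG T.J V S T.isAffine).2 j _ h0
      have : ((EtModW.epsPullMod Λ X).obj (R.obj G)).obj.map (S.D.map f).op y = 0 :=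
        (hE (T.D.obj i)).1 ((NatTrans.naturality_apply c.hom (S.D.map f).op y).trans
          (hf.trans (map_zero (c.hom.app (op (S.D.obj i))).hom).symm))
      rw [← S.π_w f, op_comp, Functor.map_comp_apply, this, map_zero]
    · obtain ⟨j, y, rfl⟩ := h1 s
      obtain ⟨y', rfl⟩ := (hE (T.D.obj j)).2 y
      exact ⟨_, NatTrans.naturality_apply c.hom (S.π j).op y'⟩
  have : IsIso c := isIso_of_reflects_iso c (Eps.toAbP Λ X)
  exact ⟨_, ⟨asIso c⟩⟩

/-- Being pulled back from the etale site is local for the pro-etale topology. -/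
theorem isEtPulled_of_cover {ι : Type u} (U : ι → X.ProEt) (hU : EtModW.CoversP U)
    (h : ∀ k, Good G (U k)) : IsEtPulled Λ G := by
  refine isEtPulled_of_sectColim (sectColim_of_local fun T hT => ?_)
  have hT' : IsAffine T.left := hT
  obtain ⟨n, W, g, hW, hcov, hmem⟩ := ProEt.exists_affine_refinement
    ((Scheme.ProEt.topology X).pullback_stable
      (MorphismProperty.Over.homMk T.hom : T ⟶ ProEtS.topP X) hU)
  refine ⟨n, W, g, hW, hcov, fun a => ?_⟩
  obtain ⟨k, f, hf⟩ := (Sieve.mem_ofArrows_iff _ _ _).1 (hmem a)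
  exact (h k).of_hom f

end Groth.EtaleDeep.LocConstP
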