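import Groth.Agent.EtaleDeep.Cons.Criterion
import Groth.Agent.EtaleDeep.Cons.LocConstMod
import Groth.Agent.EtaleDeep.Eps.Separated

/-!
# Finitely presented local constancy descends along flat coverings
-/

set_option autoImplicit false
set_option backward.isDefEq.respectTransparency.types false
set_option linter.style.haveILetI false

universe u

open CategoryTheory CategoryTheory.Limits AlgebraicGeometry Opposite Topology

namespace Groth.EtaleDeep.LocConstP

open Groth.EtaleBase Groth.EtaleBase.LocConst Groth.EtaleBase.SitePt Groth.EtaleDeep.Cons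

variable {Λ : Type (u + 1)} [CommRing Λ]

/-- For a finite type locally constant sheaf the bijectivity locus of finitely many sections is open. -/
theorem isOpen_bijLocus {X : Scheme.{u}} {G : EtModW.Mod Λ X} (hG : EtModW.IsFTLocConst Λ G) (W : X.Etale)
    {M : Type (u + 1)} [AddCommGroup M] [Module Λ M] [Module.Finite Λ M] (s : M →ₗ[Λ] EtModW.sect Λ G W) :
    IsOpen (bijLocus ((toAb Λ X).obj G) W s.toAddMonoidHom) := by
  rw [isOpen_iff_forall_mem_open]
  intro z hz
  let A := (toAb Λ X).obj G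
  let ξ := geomPoint (W.hom.base z)
  obtain ⟨t, ht⟩ := exists_geomPoint_lift W z
  obtain ⟨U, ⟨y, hy⟩, N, _, _, -, r, hr⟩ := isFT_iff.1 hG (W.hom.base z)
  obtain ⟨tU, -⟩ := exists_fiber_of_point ξ U y (hy.trans (geomPoint_apply _ _).symm)
  obtain ⟨V, p, q, v, hpv, -⟩ := exists_common ξ W U t tU
  have hr' := hr.res q
  obtain ⟨k, m, hm⟩ := Module.Finite.exists_fin (R := Λ) (M := M)
  choose n hn using fun i => (hr' _ _ _ ξ v).2 (germ ξ A V v (resM p s (m i)))
  obtain ⟨V', g, v', hv', hg⟩ := exists_common_eq ξ (F := A) V v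
    (fun i => resM q r (n i)) (fun i => resM p s (m i)) hn
  let T := resM g (resM q r)
  let S := resM g (resM p s)
  have hT : StalkBijM G V' T := hr'.res g
  have hrange : ∀ a, S a ∈ LinearMap.range T := by
    have : Submodule.span Λ (Set.range m) ≤ (LinearMap.range T).comap S := by
      rw [Submodule.span_le]
      rintro _ ⟨i, rfl⟩
      exact ⟨n i, hg i⟩
    exact fun a => this (hm.symm ▸ Submodule.mem_top)
  have hTinj : Function.Injective T := hT.injective (fiberPoint ξ v')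
  let h : M →ₗ[Λ] N := (LinearEquiv.ofInjective T hTinj).symm.toLinearMap.comp
    (S.codRestrict (LinearMap.range T) hrange)
  have hh : ∀ a, T (h a) = S a := fun a => congrArg Subtype.val
    ((LinearEquiv.ofInjective T hTinj).apply_symm_apply (S.codRestrict (LinearMap.range T) hrange a))
  have key : ∀ (Ω : Type u) [Field Ω] [IsSepClosed Ω] (ξ' : Spec (CommRingCat.of Ω) ⟶ X)
      (t' : (Scheme.pointSmallEtale ξ').fiber.obj W), fiberPoint ξ' t' ∈ Set.range (g ≫ p).left.base →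
      (Function.Bijective (fun a => germ ξ' A W t' (s a)) ↔ Function.Bijective h) := by
    rintro Ω _ _ ξ' t' ⟨w, hw⟩
    obtain ⟨v'', hv'', -⟩ := exists_fiber_lift ξ' (g ≫ p) t' w hw
    have : (fun a => germ ξ' A W t' (s a)) = (fun c => germ ξ' A V' v'' (T c)) ∘ h := funext fun a => by
      show germ ξ' A W t' (s a) = germ ξ' A V' v'' (T (h a))
      rw [hh, ← hv'', ← germ_res, op_comp, Functor.map_comp_apply]
      rfl
    rw [this]
    exact (hT _ _ _ ξ' v'').of_comp_iff' h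
  have hzr : z ∈ Set.range (g ≫ p).left.base :=
    ⟨fiberPoint ξ v', by
      rw [← fiberPoint_map, Functor.map_comp_apply, hv', hpv]
      exact ht⟩
  have hb : Function.Bijective h := (key _ ξ t (by rw [show fiberPoint ξ t = z from ht]; exact hzr)).1
    (hz _ ξ t ht)
  exact ⟨_, fun z' hz' Ω _ _ ξ' t' ht' => (key Ω ξ' t' (ht'.symm ▸ hz')).2 hb,
    (isOpenMap_left _).isOpen_range, hzr⟩

variable {X : Scheme.{u}} {F : EtModW.Mod Λ X}

/-- Sections near a geometric point realizing a finitely presented stalk. -/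
theorem exists_section_fp {Ω : Type u} [Field Ω] [IsSepClosed Ω] (ξ : Spec (CommRingCat.of Ω) ⟶ X)
    {M : Type (u + 1)} [AddCommGroup M] [Module Λ M] [Module.FinitePresentation Λ M]
    (e : M ≃ₗ[Λ] (EtModW.stalk Λ ξ).obj F) (U : X.Etale) (t : (Scheme.pointSmallEtale ξ).fiber.obj U) :
    ∃ (W : X.Etale) (g : W ⟶ U) (w : (Scheme.pointSmallEtale ξ).fiber.obj W)
      (s : M →ₗ[Λ] EtModW.sect Λ F W), (Scheme.pointSmallEtale ξ).fiber.map g w = t ∧
      Function.Bijective fun a => germ ξ ((toAb Λ X).obj F) W w (s a) := by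
  let A := (toAb Λ X).obj F
  obtain ⟨φ, hφ⟩ := exists_stalk_forget ξ F
  have hφb : Function.Bijective φ.hom := (ConcreteCategory.isIso_iff_bijective φ.hom).1 inferInstance
  obtain ⟨k, f, hf, ⟨r, c, hc⟩⟩ : ∃ (k : ℕ) (f : (Fin k → Λ) →ₗ[Λ] M), Function.Surjective f ∧
      ∃ (r : ℕ) (c : Fin r → Fin k → Λ), Submodule.span Λ (Set.range c) = LinearMap.ker f := by
    obtain ⟨k, f, hf⟩ := Module.Finite.exists_fin' Λ M
    obtain ⟨r, c, hc⟩ := Submodule.fg_iff_exists_fin_generating_family.1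
      (Module.FinitePresentation.fg_ker f hf)
    exact ⟨k, f, hf, r, c, hc⟩
  choose z hz using fun i => hφb.2 (e (f (Pi.single i 1)))
  obtain ⟨W₁, g₁, w₁, σ, hw₁, hσ⟩ := exists_common_rep ξ (F := A) U t z
  let L : (Fin k → Λ) →ₗ[Λ] EtModW.sect Λ F W₁ := Fintype.linearCombination Λ σ
  have hL : (germM ξ F W₁ w₁).hom.comp L = e.toLinearMap.comp f := by
    refine LinearMap.pi_ext' fun i => LinearMap.ext_ring ?_
    simp only [LinearMap.comp_apply, LinearMap.single_apply, L, Fintype.linearCombination_apply_single,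
      one_smul, LinearEquiv.coe_coe]
    exact (hφ W₁ w₁ (σ i)).symm.trans ((congrArg φ.hom (hσ i)).trans (hz i))
  obtain ⟨W₂, g₂, w₂, hw₂, he⟩ := exists_common_eq ξ (F := A) W₁ w₁ (fun j => L (c j)) (fun _ => 0)
    fun j => hφb.1 (by
      rw [hφ, hφ]
      refine Eq.trans ?_ (map_zero (germM ξ F W₁ w₁).hom).symm
      refine (LinearMap.congr_fun hL (c j)).trans ?_
      rw [LinearMap.comp_apply, LinearMap.mem_ker.1 (hc.le (Submodule.subset_span ⟨j, rfl⟩)), map_zero])
  have hker : LinearMap.ker f ≤ LinearMap.ker (resM g₂ L) := by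
    rw [← hc, Submodule.span_le]
    rintro _ ⟨j, rfl⟩
    exact (he j).trans (map_zero _)
  let s : M →ₗ[Λ] EtModW.sect Λ F W₂ := ((LinearMap.ker f).liftQ (resM g₂ L) hker).comp
    (f.quotKerEquivOfSurjective hf).symm.toLinearMap
  have hs : ∀ v, s (f v) = resM g₂ L v := fun v => by
    change (LinearMap.ker f).liftQ (resM g₂ L) hker ((f.quotKerEquivOfSurjective hf).symm (f v)) = _
    rw [show (f.quotKerEquivOfSurjective hf).symm (f v) = Submodule.Quotient.mk v from
      (LinearEquiv.symm_apply_eq _).2 rfl]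
    rfl
  refine ⟨W₂, g₂ ≫ g₁, w₂, s, by rw [Functor.map_comp_apply, hw₂, hw₁], ?_⟩
  refine (hφb.of_comp_iff' _).1 ?_
  refine (congrArg Function.Bijective (funext fun a => ?_ : (e : M → _) = _)).mp e.bijective
  obtain ⟨v, rfl⟩ := hf a
  show e (f v) = φ.hom (germ ξ A W₂ w₂ (s (f v)))
  rw [hs]
  refine (LinearMap.congr_fun hL v).symm.trans ((hφ W₁ w₁ (L v)).symm.trans (congrArg φ.hom ?_))
  exact ((germ_res ξ A g₂ w₂ (L v)).trans (by rw [hw₂])).symm

variable {T : Scheme.{u}} (h : T ⟶ X) {W : X.Etale} (σ : EtCoh.top T ⟶ (EtCoh.bc h).obj W)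
  {M : Type (u + 1)} [AddCommGroup M] [Module Λ M] (s : M →ₗ[Λ] EtModW.sect Λ F W)

/-- Sections over `W` pulled back to a scheme with a map to `W`. -/
noncomputable def pulledSect : M →ₗ[Λ] EtModW.sect Λ ((EtModW.pull Λ h).obj F) (EtCoh.top T) :=
  resM σ ((((FixPt.pullPushAdj (Λ := Λ) h).unit.app F).hom.app (op W)).hom.comp s)

/-- Bijectivity loci of pulled back sections. -/
theorem bijective_pulledSect_iff {Ω : Type u} [Field Ω] [IsSepClosed Ω]
    (ξ : Spec (CommRingCat.of Ω) ⟶ T) (t : (Scheme.pointSmallEtale ξ).fiber.obj (EtCoh.top T)) :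
    ∃ t₁ : (Scheme.pointSmallEtale (ξ ≫ h)).fiber.obj W,
      fiberPoint (ξ ≫ h) t₁ = (σ.left ≫ pullback.fst W.hom h).base (fiberPoint ξ t) ∧
      (Function.Bijective (fun a => germ ξ ((toAb Λ T).obj ((EtModW.pull Λ h).obj F)) (EtCoh.top T) t
          (pulledSect h σ s a)) ↔
        Function.Bijective fun a => germ (ξ ≫ h) ((toAb Λ X).obj F) W t₁ (s a)) := by
  let t' := (Scheme.pointSmallEtale ξ).fiber.map σ t
  let t₁ := bcFiberEquiv h ξ W t'
  refine ⟨t₁, ?_, ?_⟩
  · exact congrArg (fun m : Spec (CommRingCat.of Ω) ⟶ W.left => m.base default)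
      (Category.assoc t.left σ.left (pullback.fst W.hom h))
  · have ht : pushLift h ξ rfl W t₁ = t' := (bcFiberEquiv h ξ W).symm_apply_apply t'
    have := isIso_cmpPull Λ h F
    let Φ := (stalkPullIso h ξ).hom.app ((toAb Λ X).obj F) ≫ (EtCoh.stalk ξ).map ((cmpPull Λ h).app F)
    have hΦ : Function.Bijective Φ := (ConcreteCategory.isIso_iff_bijective Φ).1 inferInstance
    refine Iff.trans (Eq.to_iff (congrArg Function.Bijective (funext fun a => ?_))) (hΦ.of_comp_iff' _)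
    show germ ξ _ (EtCoh.top T) t (pulledSect h σ s a) = Φ (germ (ξ ≫ h) ((toAb Λ X).obj F) W t₁ (s a))
    refine Eq.trans (germ_res ξ ((toAb Λ T).obj ((EtModW.pull Λ h).obj F)) σ t _) (Eq.symm ?_)
    refine (congrArg ((EtCoh.stalk ξ).map ((cmpPull Λ h).app F))
      (stalkPullIso_germ h ξ _ W t₁ (s a))).trans ?_
    rw [ht]
    refine (germ_map ξ ((cmpPull Λ h).app F) _ t' _).trans (congrArg _ ?_)
    exact ConcreteCategory.congr_hom (congrArg (fun m => m.hom.app (op W)) (unit_cmpPull Λ h F)) (s a)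

/-- Finitely presented local constancy descends along flat affine coverings. -/
theorem exists_stalkBijM_of_flat
    (hF : ∀ (E : X.Etale), IsAffine E.left → ∃ (n : ℕ) (W : Fin n → Scheme.{u}) (q : ∀ a, W a ⟶ E.left),
      (∀ a, IsAffine (W a)) ∧ (∀ a, Flat (q a)) ∧ (∀ e : E.left, ∃ a, e ∈ Set.range (q a)) ∧
      ∀ a, ∃ (N : Type (u + 1)) (_ : AddCommGroup N) (_ : Module Λ N) (_ : Module.FinitePresentation Λ N)
        (r : N →ₗ[Λ] EtModW.sect Λ ((EtModW.pull Λ (q a ≫ E.hom)).obj F) (EtCoh.top (W a))),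
        StalkBijM ((EtModW.pull Λ (q a ≫ E.hom)).obj F) (EtCoh.top (W a)) r) (x : X) :
    ∃ (W : X.Etale) (_ : ∃ y, W.hom.base y = x) (M : Type (u + 1)) (_ : AddCommGroup M) (_ : Module Λ M)
      (_ : Module.FinitePresentation Λ M) (s : M →ₗ[Λ] EtModW.sect Λ F W), StalkBijM F W s := by
  classical
  have hFT : ∀ {Z : Scheme.{u}} {G : EtModW.Mod Λ Z} (N : Type (u + 1)) [AddCommGroup N] [Module Λ N]
      [Module.FinitePresentation Λ N] (r : N →ₗ[Λ] EtModW.sect Λ G (EtCoh.top Z)),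
      StalkBijM G (EtCoh.top Z) r → EtModW.IsFTLocConst Λ G := fun N _ _ _ r hr =>
    isFT_iff.2 fun z => ⟨EtCoh.top _, ⟨z, rfl⟩, N, _, _, inferInstance, r, hr⟩
  obtain ⟨O, hO, hxO, -⟩ := exists_isAffineOpen_mem_and_subset (U := ⊤) (Set.mem_univ x)
  let E₀ : X.Etale := Scheme.Etale.mk O.ι
  obtain ⟨n₀, W₀, q₀, -, -, hcov₀, htriv₀⟩ := hF E₀ hO
  obtain ⟨a₀, w₀, hw₀⟩ := hcov₀ ⟨x, hxO⟩
  obtain ⟨N₀, _, _, _, r₀, hr₀⟩ := htriv₀ a₀
  let g₀ := q₀ a₀ ≫ E₀.hom
  let ζ := geomPoint w₀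
  obtain ⟨t₀, -⟩ := exists_fiber_of_point ζ (EtCoh.top (W₀ a₀)) (ζ.base default) rfl
  obtain ⟨e₀⟩ := stalkBijM_linearEquiv ζ hr₀ t₀
  let ξ := ζ ≫ g₀
  have hξ : ξ.base default = x := by
    show E₀.hom.base ((q₀ a₀).base (ζ.base default)) = x
    rw [geomPoint_apply, hw₀]
    rfl
  obtain ⟨tE, -⟩ := exists_fiber_of_point ξ E₀ (⟨x, hxO⟩ : O.toScheme) (by rw [hξ]; rfl)
  obtain ⟨W', g', w', s', hgw', hs'⟩ := exists_section_fp ξ
    (e₀.trans ((PullModExact.stalkPullModIso Λ g₀ ζ).app F).symm.toLinearEquiv) E₀ tE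
  -- an affine chart
  obtain ⟨N, hN, hwN, -⟩ := exists_isAffineOpen_mem_and_subset (U := ⊤) (Set.mem_univ (fiberPoint ξ w'))
  let E := openObj W' N
  obtain ⟨w, hw⟩ := exists_lift_open ξ N w' hwN
  let s := resM (openHom W' N) s'
  let A := (toAb Λ X).obj F
  have hgood : fiberPoint ξ w ∈ bijLocus A E s.toAddMonoidHom := fun Ω _ _ η τ hτ => by
    refine bijective_germ_of_fiberPoint_eq A E s.toAddMonoidHom τ w hτ ?_
    refine (congrArg Function.Bijective (funext fun a => ?_)).mp hs'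
    exact ((germ_res ξ A (openHom W' N) w (s' a)).trans (by rw [hw]; rfl)).symm
  obtain ⟨n, W, q, hW, hq, hcov, htriv⟩ := hF E hN
  choose Nn hNn hNn' hNf r hr using htriv
  let σ : ∀ a, EtCoh.top (W a) ⟶ (EtCoh.bc (q a ≫ E.hom)).obj E := fun a =>
    MorphismProperty.Over.homMk (pullback.lift (q a) (𝟙 _) (Category.id_comp _).symm)
      (pullback.lift_snd _ _ _)
  let B : ∀ a, Set (W a) := fun a => (q a).base ⁻¹' (bijLocus A E s.toAddMonoidHom)ᶜ
  have hopen : ∀ a, IsOpen ((q a).base ⁻¹' bijLocus A E s.toAddMonoidHom) := fun a => by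
    have : Module.Finite Λ N₀ := inferInstance
    have h1 := isOpen_bijLocus (hFT _ (r a) (hr a)) (EtCoh.top (W a)) (pulledSect (q a ≫ E.hom) (σ a) s)
    refine (?_ : _ = (q a).base ⁻¹' bijLocus A E s.toAddMonoidHom) ▸ h1
    ext v
    have hσ : (σ a).left ≫ pullback.fst E.hom (q a ≫ E.hom) = q a := pullback.lift_fst _ _ _
    obtain ⟨τ, hτ⟩ := exists_geomPoint_lift (EtCoh.top (W a)) v
    constructor
    · intro hv Ω _ _ η θ hθ
      obtain ⟨t₁, ht₁, hiff⟩ := bijective_pulledSect_iff (q a ≫ E.hom) (σ a) s _ τ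
      refine bijective_germ_of_fiberPoint_eq A E s.toAddMonoidHom θ t₁ ?_ (hiff.1 (hv _ _ τ hτ))
      rw [hθ, ht₁, hσ, show fiberPoint _ τ = v from hτ]
      rfl
    · intro hv Ω _ _ η θ hθ
      obtain ⟨t₁, ht₁, hiff⟩ := bijective_pulledSect_iff (q a ≫ E.hom) (σ a) s η θ
      exact hiff.2 (hv Ω _ t₁ (by rw [ht₁, hσ, hθ]; rfl))
  let C : Set E.left := ⋃ a, closure ((q a).base '' B a)
  have hC : fiberPoint ξ w ∉ C := fun hmem => by
    obtain ⟨a, ha⟩ := Set.mem_iUnion.1 hmem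
    have := hW a
    have := hq a
    have : IsAffine E.left := hN
    obtain ⟨b, hb, hbx⟩ := Eps.exists_specializes_of_mem_closure_image (q a) (hopen a).isClosed_compl ha
    obtain ⟨a', v, hv⟩ := hcov (fiberPoint ξ w)
    have := hq a'
    obtain ⟨v', hv', hv'b⟩ := Flat.generalizingMap (q a') (hv.symm ▸ hbx)
    have : v' ∈ (q a').base ⁻¹' bijLocus A E s.toAddMonoidHom :=
      hv'.mem_open (hopen a') (show (q a').base v ∈ bijLocus A E s.toAddMonoidHom from hv ▸ hgood)
    exact hb (show (q a).base b ∈ bijLocus A E s.toAddMonoidHom from hv'b ▸ this)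
  let N' : E.left.Opens := ⟨Cᶜ, (isClosed_iUnion_of_finite fun a => isClosed_closure).isOpen_compl⟩
  refine ⟨openObj E N', ⟨⟨fiberPoint ξ w, hC⟩, (hom_fiberPoint ξ w).trans hξ⟩, N₀, inferInstance,
    inferInstance, inferInstance, resM (openHom E N') s, fun Ω _ _ η τ => ?_⟩
  refine (congrArg Function.Bijective (funext fun a => germ_res η A (openHom E N') τ (s a))).mpr ?_
  have hnot : fiberPoint η ((Scheme.pointSmallEtale η).fiber.map (openHom E N') τ) ∉ C := by
    rw [fiberPoint_map]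
    exact (fiberPoint η τ).2
  obtain ⟨a, v, hv⟩ := hcov (fiberPoint η ((Scheme.pointSmallEtale η).fiber.map (openHom E N') τ))
  by_contra hne
  refine hnot (Set.mem_iUnion.2 ⟨a, subset_closure ⟨v, fun hgv => hne (hgv Ω η _ hv.symm), hv⟩⟩)

end Groth.EtaleDeep.LocConstP
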