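import Groth.Agent.EtaleDeep.LocConstP.LBij
import Groth.Agent.EtaleDeep.LocConstP.Descent
import Groth.Agent.EtaleDeep.LocConstP.FlatDescent
import Groth.Agent.EtaleDeep.Eps.Derived

/-!
# Trivializations on the etale and the pro-etale site
-/

set_option autoImplicit false
set_option backward.isDefEq.respectTransparency.types false
set_option linter.style.haveILetI false

universe u

open CategoryTheory CategoryTheory.Limits AlgebraicGeometry Opposite Topology

namespace Groth.EtaleDeep.LocConstP

open Groth.EtaleDeep.Eps Groth.EtaleDeep.AdicP Groth.EtaleBase Groth.EtaleBase.LocConst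
  Groth.EtaleBase.SitePt Groth.EtaleDeep.Cons

attribute [local instance] ProEtSite.pCont ProEtSite.epsCont jpCont

variable {Λ : Type (u + 1)} [CommRing Λ] {X : Scheme.{u}}

/-- The terminal object of the small etale site. -/
noncomputable def isTerminalTop (X : Scheme.{u}) : IsTerminal (EtCoh.top X) :=
  IsTerminal.ofUniqueHom (fun U => MorphismProperty.Over.homMk U.hom (Category.comp_id _))
    fun U m => MorphismProperty.Over.Hom.ext
      ((Category.comp_id m.left).symm.trans (MorphismProperty.Over.w m))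

/-- Constant pro-etale sheaves are pulled back from the etale site. -/
theorem nonempty_constP_iso (X : Scheme.{u}) (M : ModuleCat.{u + 1} Λ) :
    Nonempty ((constantSheaf (Scheme.ProEt.topology X) (ModuleCat.{u + 1} Λ)).obj M ≅
      (EtModW.epsPullMod Λ X).obj ((constantSheaf X.smallEtaleTopology (ModuleCat.{u + 1} Λ)).obj M)) := by
  let a₁ := (constantSheafAdj X.smallEtaleTopology (ModuleCat.{u + 1} Λ) (isTerminalTop X)).comp
    (Eps.epsAdjMod Λ (X := X))
  let a₂ := constantSheafAdj (Scheme.ProEt.topology X) (ModuleCat.{u + 1} Λ) (isTerminalTopP X)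
  exact ⟨(a₂.leftAdjointUniq (a₁.ofNatIsoRight (Iso.refl _))).app M⟩

/-- The comparison with the top object of the site of a member. -/
noncomputable def topHom (V : X.ProEt) [WeaklyEtale V.hom] :
    (ProEtS.compP V.hom).obj (ProEtS.topP V.left) ⟶ V :=
  MorphismProperty.Over.homMk (𝟙 V.left) rfl

/-- A trivialization over a member of the pro-etale site trivializes the restriction to its site. -/
theorem nonempty_restr_iso_of_lBij (V : X.ProEt) [WeaklyEtale V.hom] {G : EtModW.ModP Λ X} {M : Type (u + 1)}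
    [AddCommGroup M] [Module Λ M] {s : M →ₗ[Λ] G.obj.obj (op V)} (hs : LBij G V s) :
    Nonempty ((EtModW.epsPullMod Λ V.left).obj
      ((constantSheaf V.left.smallEtaleTopology (ModuleCat.{u + 1} Λ)).obj (ModuleCat.of Λ M)) ≅
      (restrPM Λ V.hom).obj G) := by
  let G' := (restrPM Λ V.hom).obj G
  let s' : M →ₗ[Λ] G'.obj.obj (op (ProEtS.topP V.left)) := (G.obj.map (topHom V).op).hom.comp s
  have hs' : LBij G' (ProEtS.topP V.left) s' := by
    refine ⟨fun {Y} h a ha hne => ?_, fun {Y} h σ => ?_⟩
    · have h0 : (⊥ : Sieve ((ProEtS.compP V.hom).obj Y)) ∈ Scheme.ProEt.topology X _ :=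
        hs.inj ((ProEtS.compP V.hom).map h ≫ topHom V) a (by
          rw [op_comp, Functor.map_comp]
          exact ha) hne
      refine (Scheme.ProEt.topology V.left).superset_covering ?_
        ((ProEt.compP_isCocontinuous V.hom).cover_lift h0)
      exact fun Z k hk => False.elim hk
    · refine (Scheme.ProEt.topology V.left).superset_covering ?_
        ((ProEt.compP_isCocontinuous V.hom).cover_lift (hs.surj ((ProEtS.compP V.hom).map h ≫ topHom V) σ))
      rintro Z k ⟨a, ha⟩
      refine ⟨a, ?_⟩
      rw [op_comp, Functor.map_comp] at ha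
      exact ha
  obtain ⟨e⟩ := hs'.nonempty_constIso (isTerminalTopP V.left)
  obtain ⟨c⟩ := nonempty_constP_iso V.left (ModuleCat.of Λ M)
  exact ⟨c.symm ≪≫ e⟩

/-- A trivialization of the restriction to the site of a member trivializes over it. -/
theorem exists_lBij_of_restr_iso (V : X.ProEt) [WeaklyEtale V.hom] {G : EtModW.ModP Λ X} {M : Type (u + 1)}
    [AddCommGroup M] [Module Λ M]
    (e : (constantSheaf (Scheme.ProEt.topology V.left) (ModuleCat.{u + 1} Λ)).obj (ModuleCat.of Λ M) ≅
      (restrPM Λ V.hom).obj G) : ∃ s : M →ₗ[Λ] G.obj.obj (op V), LBij G V s := by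
  obtain ⟨s', hs'⟩ := exists_lBij_of_constIso (U := ProEtS.topP V.left) e
  let ι : V ⟶ (ProEtS.compP V.hom).obj (ProEtS.topP V.left) :=
    MorphismProperty.Over.homMk (𝟙 V.left) ((Category.id_comp _).trans (Category.id_comp _))
  have hcp : CoverPreserving (Scheme.ProEt.topology V.left) (Scheme.ProEt.topology X) (ProEtS.compP V.hom) :=
    CoverPreserving.of_isContinuous _ _ _
  refine ⟨(G.obj.map ι.op).hom.comp s', ⟨fun {Y} h a ha hne => ?_, fun {Y} h σ => ?_⟩⟩
  all_goals
    have hw : WeaklyEtale h.left := ProEt.weaklyEtale_left h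
    let Z : V.left.ProEt := Scheme.ProEt.mk h.left
    let θ : (ProEtS.compP V.hom).obj Z ≅ Y :=
      MorphismProperty.Over.isoMk (Iso.refl _) ((Category.id_comp _).trans (MorphismProperty.Over.w h).symm)
    let h' : Z ⟶ ProEtS.topP V.left := MorphismProperty.Over.homMk h.left (Category.comp_id _)
    have hfac : θ.hom ≫ h ≫ ι = (ProEtS.compP V.hom).map h' :=
      MorphismProperty.Over.Hom.ext ((Category.id_comp _).trans (Category.comp_id _))
    have hcov : ∀ {S : Sieve Z}, S ∈ Scheme.ProEt.topology V.left Z →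
        (S.functorPushforward (ProEtS.compP V.hom)).pullback θ.inv ∈ Scheme.ProEt.topology X Y :=
      fun hS => (Scheme.ProEt.topology X).pullback_stable θ.inv (hcp.cover_preserve hS)
  · have h0 : (G.obj.map ((ProEtS.compP V.hom).map h').op).hom (s' a) = 0 := by
      rw [← hfac, op_comp, op_comp, Functor.map_comp, Functor.map_comp]
      exact (congrArg (G.obj.map θ.hom.op).hom ha).trans (map_zero _)
    refine (Scheme.ProEt.topology X).superset_covering ?_ (hcov (hs'.inj h' a h0 hne))
    rintro Z' k ⟨W, g, b, hg, -⟩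
    exact False.elim hg
  · refine (Scheme.ProEt.topology X).superset_covering ?_
      (hcov (hs'.surj h' ((G.obj.map θ.hom.op).hom σ)))
    rintro Z' k ⟨W, g, b, ⟨a, ha⟩, hb⟩
    refine ⟨a, ?_⟩
    have hk : k = (b ≫ (ProEtS.compP V.hom).map g) ≫ θ.hom := by
      rw [← hb, Category.assoc, θ.inv_hom_id, Category.comp_id]
    have hkι : k ≫ h ≫ ι = b ≫ (ProEtS.compP V.hom).map g ≫ (ProEtS.compP V.hom).map h' := by
      rw [hk, Category.assoc, Category.assoc, hfac]
    calc (G.obj.map k.op).hom ((G.obj.map h.op).hom ((G.obj.map ι.op).hom (s' a)))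
        = (G.obj.map (k ≫ h ≫ ι).op).hom (s' a) := by
          simp only [op_comp, Functor.map_comp, ModuleCat.hom_comp, LinearMap.comp_apply]
      _ = (G.obj.map b.op).hom ((G.obj.map ((ProEtS.compP V.hom).map g).op).hom
            ((G.obj.map θ.hom.op).hom σ)) := by
          rw [hkι]
          simp only [op_comp, Functor.map_comp, ModuleCat.hom_comp, LinearMap.comp_apply]
          exact congrArg (G.obj.map b.op).hom ha
      _ = (G.obj.map k.op).hom σ := by
          rw [hk]
          simp only [op_comp, Functor.map_comp, ModuleCat.hom_comp, LinearMap.comp_apply]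

/-- Stalkwise bijective sections are locally bijective. -/
theorem lBij_of_stalkBijM {F : EtModW.Mod Λ X} {U : X.Etale} {M : Type (u + 1)} [AddCommGroup M]
    [Module Λ M] {s : M →ₗ[Λ] EtModW.sect Λ F U} (h : StalkBijM F U s) :
    ∃ s' : M →ₗ[Λ] F.obj.obj (op U), LBij F U s' := by
  have := isIso_fromConstM h
  exact exists_lBij_of_overIso.{u, u + 1, u + 1} (F := F) (U := U) (M := M) (asIso (fromConstM F U s)).symm

/-- A sheaf constant on the site gives stalkwise bijective global sections. -/
theorem exists_stalkBijM_of_constIso {F : EtModW.Mod Λ X} {M : Type (u + 1)} [AddCommGroup M] [Module Λ M]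
    (e : (constantSheaf X.smallEtaleTopology (ModuleCat.{u + 1} Λ)).obj (ModuleCat.of Λ M) ≅ F) :
    ∃ s : M →ₗ[Λ] EtModW.sect Λ F (EtCoh.top X), StalkBijM F (EtCoh.top X) s := by
  obtain ⟨s, hs⟩ := exists_lBij_of_constIso (U := EtCoh.top X) e
  obtain ⟨e'⟩ := hs.nonempty_overIso
  exact exists_stalkBijM_of_iso e'

/-- Over a trivializing etale object the sheaf becomes constant. -/
theorem nonempty_pull_iso_const {F : EtModW.Mod Λ X} {U : X.Etale} {M : Type (u + 1)} [AddCommGroup M]
    [Module Λ M] {s : M →ₗ[Λ] EtModW.sect Λ F U} (hs : StalkBijM F U s) :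
    Nonempty ((constantSheaf U.left.smallEtaleTopology (ModuleCat.{u + 1} Λ)).obj (ModuleCat.of Λ M) ≅
      (EtModW.pull Λ U.hom).obj F) := by
  let s' : M →ₗ[Λ] EtModW.sect Λ ((EtModW.pull Λ U.hom).obj F) ((EtCoh.bc U.hom).obj U) :=
    (((FixPt.pullPushAdj (Λ := Λ) U.hom).unit.app F).hom.app (op U)).hom.comp s
  have hs' : StalkBijM ((EtModW.pull Λ U.hom).obj F) ((EtCoh.bc U.hom).obj U) s' := by
    have := isIso_cmpPull Λ U.hom F
    have h := StalkBij.of_iso (stalkBij_pull U.hom _ hs) (asIso ((cmpPull Λ U.hom).app F))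
    intro Ω _ _ ξ t
    refine (congrArg Function.Bijective (funext fun a => congrArg
      (germ ξ ((toAb Λ U.left).obj ((EtModW.pull Λ U.hom).obj F)) ((EtCoh.bc U.hom).obj U) t) ?_)).mp (h Ω _ _ ξ t)
    exact (ConcreteCategory.congr_hom
      (congrArg (fun m => m.hom.app (op U)) (unit_cmpPull Λ U.hom F)) (s a))
  let δ : EtCoh.top U.left ⟶ (EtCoh.bc U.hom).obj U :=
    MorphismProperty.Over.homMk (pullback.lift (𝟙 U.left) (𝟙 U.left) rfl) (pullback.lift_snd _ _ _)
  obtain ⟨s'', hs''⟩ := lBij_of_stalkBijM (hs'.res δ)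
  exact hs''.nonempty_constIso (isTerminalTop U.left)

end Groth.EtaleDeep.LocConstP
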