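import Groth.Agent.EtaleDeep.LocConstP.Bridge

/-!
# Finitely presented locally constant sheaves on the etale and the pro-etale site
-/

set_option autoImplicit false
set_option backward.isDefEq.respectTransparency.types false
set_option linter.style.haveILetI false

universe u

open CategoryTheory CategoryTheory.Limits AlgebraicGeometry Opposite Topology

namespace Groth.EtaleDeep.LocConstP

open Groth.EtaleDeep.Eps Groth.EtaleDeep.AdicP Groth.EtaleBase Groth.EtaleBase.LocConst
  Groth.EtaleBase.SitePt Groth.EtaleDeep.Cons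

attribute [local instance] ProEtSite.pCont ProEtSite.epsCont jpCont

variable {Λ : Type (u + 1)} [CommRing Λ] {X : Scheme.{u}}

/-- An etale covering covers in the pro-etale site. -/
theorem coversP_eps {ι : Type u} (U : ι → X.Etale) (hU : EtCoh.Covers U) :
    EtModW.CoversP fun i => (ProEtS.eps X).obj (U i) := by
  let f : ∀ i, U i ⟶ EtCoh.top X := fun i => MorphismProperty.Over.homMk (U i).hom (Category.comp_id _)
  have h : Sieve.ofArrows U f ∈ X.smallEtaleTopology (EtCoh.top X) :=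
    (EtaleBase.mem_topology_iff _).2 fun x => by
      obtain ⟨i, y, hy⟩ := hU x
      exact ⟨U i, f i, y, Sieve.ofArrows_mk _ _ i, hy⟩
  have hcp : CoverPreserving X.smallEtaleTopology (Scheme.ProEt.topology X) (ProEtS.eps X) :=
    CoverPreserving.of_isContinuous _ _ _
  refine (Scheme.ProEt.topology X).superset_covering ?_ (hcp.cover_preserve h)
  rintro Z k ⟨W, g, b, ⟨W', a, c, ⟨i⟩, rfl⟩, rfl⟩
  refine (Sieve.mem_ofArrows_iff _ _ _).2 ⟨i, b ≫ (ProEtS.eps X).map a, ?_⟩
  rw [Functor.map_comp, Category.assoc]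
  rfl

/-- `ε⁻¹` preserves finitely presented local constancy. -/
theorem isFPLocConstP_epsPull {F : EtModW.Mod Λ X} (hF : EtModW.IsFPLocConst Λ F) :
    EtModW.IsFPLocConstP Λ ((EtModW.epsPullMod Λ X).obj F) := by
  obtain ⟨ι, U, hU, h⟩ := hF
  refine ⟨ι, fun i => (ProEtS.eps X).obj (U i), coversP_eps U hU, fun i => ?_⟩
  obtain ⟨M, _, _, hM, ⟨e⟩⟩ := h i
  refine ⟨M, inferInstance, inferInstance, hM, ?_⟩
  obtain ⟨s, hs⟩ := exists_stalkBijM_of_iso e
  obtain ⟨e₁⟩ := nonempty_pull_iso_const hs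
  let V := (ProEtS.eps X).obj (U i)
  have : WeaklyEtale V.hom := V.prop
  obtain ⟨ε⟩ := nonempty_restrPM_iso_pullPM Λ V.hom
  obtain ⟨e₂⟩ := nonempty_epsPullMod_comp_pull Λ V.hom
  obtain ⟨e₃⟩ := nonempty_constP_iso V.left (ModuleCat.of Λ M)
  obtain ⟨s', hs'⟩ := exists_lBij_of_restr_iso V (G := (EtModW.epsPullMod Λ X).obj F)
    (e₃ ≪≫ (EtModW.epsPullMod Λ V.left).mapIso e₁ ≪≫ (e₂.app F).symm ≪≫ (ε.app _).symm)
  exact hs'.nonempty_overIso

/-- Finitely presented locally constant pro-etale sheaves come from the etale site. -/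
theorem exists_isFPLocConst {G : EtModW.ModP Λ X} (hG : EtModW.IsFPLocConstP Λ G) :
    ∃ F : EtModW.Mod Λ X, EtModW.IsFPLocConst Λ F ∧ Nonempty ((EtModW.epsPullMod Λ X).obj F ≅ G) := by
  obtain ⟨ι, U, hU, h⟩ := hG
  choose M hM hM' hMf e using h
  choose s hs using fun i => exists_lBij_of_overIso.{u, u + 1, u + 1} (F := G) (U := U i) (M := M i) (e i).some
  have hwe : ∀ V : X.ProEt, WeaklyEtale V.hom := fun V => V.prop
  have hkey : ∀ i (V : X.ProEt) (f : V ⟶ U i), Nonempty ((EtModW.epsPullMod Λ V.left).obj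
      ((constantSheaf V.left.smallEtaleTopology (ModuleCat.{u + 1} Λ)).obj (ModuleCat.of Λ (M i))) ≅
      (pullPM Λ V.hom).obj G) := fun i V f => by
    have := hwe V
    obtain ⟨e'⟩ := nonempty_restr_iso_of_lBij V ((hs i).res f)
    obtain ⟨ε⟩ := nonempty_restrPM_iso_pullPM Λ V.hom
    exact ⟨e' ≪≫ ε.app G⟩
  have hG' : IsEtPulled Λ G := isEtPulled_of_cover U hU fun i => by
    obtain ⟨e'⟩ := hkey i (U i) (𝟙 _)
    exact ⟨_, ⟨e'⟩⟩
  let F := hG'.witness
  refine ⟨F, ?_, ⟨hG'.getIso⟩⟩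
  have hchart : ∀ x : X, ∃ (W : X.Etale) (_ : ∃ y, W.hom.base y = x) (M : Type (u + 1)) (_ : AddCommGroup M)
      (_ : Module Λ M) (_ : Module.FinitePresentation Λ M) (s : M →ₗ[Λ] EtModW.sect Λ F W),
      StalkBijM F W s := fun x => by
    refine exists_stalkBijM_of_flat (fun E hE => ?_) x
    let T := (ProEtS.eps X).obj E
    have : IsAffine T.left := hE
    obtain ⟨n, W, g, hW, hcov, hmem⟩ := ProEt.exists_affine_refinement
      ((Scheme.ProEt.topology X).pullback_stable
        (MorphismProperty.Over.homMk T.hom : T ⟶ ProEtS.topP X) hU)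
    refine ⟨n, fun a => (W a).left, fun a => (g a).left, hW, fun a => ?_, hcov, fun a => ?_⟩
    · have : WeaklyEtale (g a).left := ProEt.weaklyEtale_left (g a)
      change Flat (g a).left
      infer_instance
    · obtain ⟨i, f, -⟩ := (Sieve.mem_ofArrows_iff _ _ _).1 (hmem a)
      obtain ⟨e'⟩ := hkey i (W a) f
      obtain ⟨e₂⟩ := nonempty_epsPullMod_comp_pull Λ (W a).hom
      let adj := Eps.epsAdjMod Λ (X := (W a).left)
      have : ∀ G, IsIso (adj.unit.app G) := Eps.isIso_unitMod Λ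
      have : IsIso adj.unit := NatIso.isIso_of_isIso_app _
      let φ := adj.fullyFaithfulLOfIsIsoUnit.preimageIso
        (e' ≪≫ (pullPM Λ (W a).hom).mapIso hG'.getIso.symm ≪≫ e₂.app F)
      obtain ⟨r, hr⟩ := exists_stalkBijM_of_constIso φ
      have hh : ((g a).left : (W a).left ⟶ E.left) ≫ E.hom = (W a).hom := MorphismProperty.Over.w (g a)
      have key : ∀ h' : (W a).left ⟶ X, h' = (W a).hom →
          ∃ (N : Type (u + 1)) (_ : AddCommGroup N) (_ : Module Λ N) (_ : Module.FinitePresentation Λ N)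
            (r : N →ₗ[Λ] EtModW.sect Λ ((EtModW.pull Λ h').obj F) (EtCoh.top (W a).left)),
            StalkBijM ((EtModW.pull Λ h').obj F) (EtCoh.top (W a).left) r := by
        rintro _ rfl
        exact ⟨M i, hM i, hM' i, hMf i, r, hr⟩
      exact key _ hh
  choose W hW N hN hN' hNf t ht using hchart
  refine ⟨X, W, fun x => ⟨x, hW x⟩, fun x => ⟨N x, hN x, hN' x, hNf x, ?_⟩⟩
  have := isIso_fromConstM (ht x)
  exact ⟨(asIso (fromConstM F (W x) (t x))).symm⟩

end Groth.EtaleDeep.LocConstP
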